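import Mathlib
import Cfsg.Agent.ClsN.Grp
import Cfsg.Agent.CIT.Spec
import Cfsg.Agent.Class.FG.IndexTwo
import Cfsg.Agent.S0279
import Cfsg.Agent.S2241
import Cfsg.Agent.S2325
import Cfsg.Agent.S2331
import Cfsg.Agent.S2480
import Cfsg.Agent.S2481
import Cfsg.Agent.S2578
import Cfsg.Agent.S4201

/-!
Class numbers of some known simple groups.
-/

set_option autoImplicit false

namespace Cfsg.Agent.ClsN

open Subgroup Matrix

theorem card_le_cn {G : Type*} [Group G] [Finite G] {X : Type*} {p : ℕ} (hp : 1 < p) (f : X → G)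
    (h1 : ∀ x, orderOf (f x) = p) (h2 : ∀ x y, IsConj (f x) (f y) → x = y) :
    Nat.card X ≤ cn p (cm G) := by
  rw [cn, Multiset.count, Multiset.countP_map, ← Multiset.countP_eq_card_filter, countP_cm,
    ← Nat.card_eq_finsetCard]
  refine Nat.card_le_card_of_injective (fun x => ⟨ConjClasses.mk (f x), Finset.mem_filter.2
    ⟨mk_mem_ntc.2 fun h => ?_, (h1 x).symm⟩⟩) fun x y h =>
      h2 x y (ConjClasses.mk_eq_mk_iff_isConj.1 (congrArg Subtype.val h))
  have := h1 x
  rw [h, orderOf_one] at this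
  omega

theorem two_le_cn {G : Type*} [Group G] [Finite G] {p : ℕ} (hp : 1 < p) {x y : G}
    (hx : orderOf x = p) (hy : orderOf y = p) (h : ¬ IsConj x y) : 2 ≤ cn p (cm G) := by
  have := card_le_cn hp (fun b : Bool => cond b x y) (fun b => by cases b <;> assumption)
    fun a b h' => by
      cases a <;> cases b
      · rfl
      · exact absurd h'.symm h
      · exact absurd h' h
      · rfl
  simpa using this

theorem k_le_card {G : Type*} [Group G] [Finite G] : Nat.card (ConjClasses G) ≤ Nat.card G :=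
  Nat.card_le_card_of_surjective _ ConjClasses.mk_surjective

/-- multisets of positive numbers with sum `n` -/
def pts : ℕ → ℕ → Finset (Multiset ℕ)
  | 0, _ => {0}
  | f + 1, n => if n = 0 then {0} else
    (Finset.range n).biUnion fun a => (pts f (n - (a + 1))).image (Multiset.cons (a + 1))

theorem mem_pts (f : ℕ) : ∀ n ≤ f, ∀ s : Multiset ℕ, s ∈ pts f n ↔ (∀ a ∈ s, 0 < a) ∧ s.sum = n := by
  have h0 : ∀ s : Multiset ℕ, s ∈ ({0} : Finset (Multiset ℕ)) ↔ (∀ a ∈ s, 0 < a) ∧ s.sum = 0 :=
    fun s => by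
      rw [Finset.mem_singleton]
      refine ⟨by rintro rfl; simp, fun h => Multiset.eq_zero_of_forall_notMem fun a ha => ?_⟩
      exact (h.1 a ha).ne' (Multiset.sum_eq_zero_iff.1 h.2 a ha)
  induction f with
  | zero =>
    intro n hn s
    obtain rfl : n = 0 := by omega
    exact h0 s
  | succ f ih =>
    intro n hn s
    rw [pts]
    split_ifs with h
    · rw [h]; exact h0 s
    simp only [Finset.mem_biUnion, Finset.mem_range, Finset.mem_image]
    constructor
    · rintro ⟨a, ha, t, ht, rfl⟩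
      rw [ih _ (by omega)] at ht
      exact ⟨Multiset.forall_mem_cons.2 ⟨a.succ_pos, ht.1⟩, by rw [Multiset.sum_cons, ht.2]; omega⟩
    · rintro ⟨h1, h2⟩
      obtain ⟨a, ha⟩ := Multiset.exists_mem_of_ne_zero (s := s) (by rintro rfl; exact h h2.symm)
      obtain ⟨t, rfl⟩ := Multiset.exists_cons_of_mem ha
      have h3 := h1 a ha
      rw [Multiset.sum_cons] at h2
      refine ⟨a - 1, by omega, t, (ih _ (by omega) t).2
        ⟨fun b hb => h1 b (Multiset.mem_cons_of_mem hb), by omega⟩, ?_⟩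
      rw [Nat.sub_add_cancel h3]

theorem card_pts (n : ℕ) (P : Multiset ℕ → Prop) [DecidablePred P] :
    Nat.card {l : Nat.Partition n // P l.parts} = ((pts n n).filter P).card := by
  rw [← Nat.card_eq_finsetCard]
  refine Nat.card_congr (Equiv.ofBijective (fun l => ⟨l.1.parts, Finset.mem_filter.2
    ⟨(mem_pts n n le_rfl _).2 ⟨fun a => l.1.parts_pos, l.1.parts_sum⟩, l.2⟩⟩) ⟨fun a b h =>
      Subtype.ext (Nat.Partition.ext (congrArg Subtype.val h)), fun s => ?_⟩)
  obtain ⟨h1, h2⟩ := Finset.mem_filter.1 s.2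
  rw [mem_pts n n le_rfl] at h1
  exact ⟨⟨⟨s.1, h1.1 _, h1.2⟩, h2⟩, rfl⟩

theorem k_alt (n : ℕ) (hn : 2 ≤ n) : Nat.card (ConjClasses (alternatingGroup (Fin n))) +
    ((pts n n).filter fun s => ¬ Even (n + s.card)).card =
      2 * ((pts n n).filter fun s => Even (n + s.card)).card := by
  obtain ⟨e, he⟩ := S4198.exists_equiv n
  have : Nontrivial (Fin n) := Fin.nontrivial_iff_two_le.2 hn
  have h1 := S4198.count (alternatingGroup (Fin n)) alternatingGroup.index_eq_two
    (fun c => Even (n + Multiset.card (e c).parts)) he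
  rwa [Nat.card_congr (e.subtypeEquiv (q := fun l => Even (n + Multiset.card l.parts))
      fun _ => Iff.rfl),
    Nat.card_congr (e.subtypeEquiv (q := fun l => ¬ Even (n + Multiset.card l.parts))
      fun _ => Iff.rfl), card_pts n fun s => Even (n + s.card),
    card_pts n fun s => ¬ Even (n + s.card)] at h1

theorem k_A5 : Nat.card (ConjClasses (alternatingGroup (Fin 5))) = 5 := by
  have h := k_alt 5 (by norm_num)
  rw [show ((pts 5 5).filter fun s => ¬ Even (5 + s.card)).card = 3 by decide +kernel,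
    show ((pts 5 5).filter fun s => Even (5 + s.card)).card = 4 by decide +kernel] at h
  omega

theorem k_A6 : Nat.card (ConjClasses (alternatingGroup (Fin 6))) = 7 := by
  have h := k_alt 6 (by norm_num)
  rw [show ((pts 6 6).filter fun s => ¬ Even (6 + s.card)).card = 5 by decide +kernel,
    show ((pts 6 6).filter fun s => Even (6 + s.card)).card = 6 by decide +kernel] at h
  omega

theorem k_A7 : Nat.card (ConjClasses (alternatingGroup (Fin 7))) = 9 := by
  have h := k_alt 7 (by norm_num)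
  rw [show ((pts 7 7).filter fun s => ¬ Even (7 + s.card)).card = 7 by decide +kernel,
    show ((pts 7 7).filter fun s => Even (7 + s.card)).card = 8 by decide +kernel] at h
  omega

variable {F : Type*} [Field F] [Fintype F]

theorem k_L2 : (Odd (Fintype.card F) ∧
    2 * Nat.card (ConjClasses (ProjectiveSpecialLinearGroup (Fin 2) F)) = Fintype.card F + 5) ∨
    (Even (Fintype.card F) ∧
      Nat.card (ConjClasses (ProjectiveSpecialLinearGroup (Fin 2) F)) = Fintype.card F + 1) := by
  have h1 := S4201.result (center (SpecialLinearGroup (Fin 2) F))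
  have h2 := k_le_card (G := center (SpecialLinearGroup (Fin 2) F))
  rw [Class.card_center_SL, Fintype.card_fin, Nat.card_eq_fintype_card (α := F)] at h2
  have h3 := h1.trans (Nat.mul_le_mul_right _ h2)
  have h0 : 1 < Fintype.card F := Fintype.one_lt_card
  change _ ≤ _ * Nat.card (ConjClasses (ProjectiveSpecialLinearGroup (Fin 2) F)) at h3
  rcases Nat.even_or_odd (Fintype.card F) with h | h
  · refine Or.inr ⟨h, ?_⟩
    have : CharP F 2 := ringChar.of_eq (FiniteField.even_card_iff_char_two.2 (Nat.even_iff.1 h))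
    have h4 : Nat.card (ConjClasses (ProjectiveSpecialLinearGroup (Fin 2) F)) ≤ _ :=
      Nat.card_le_card_of_surjective _ (ConjClasses.map_surjective
        (QuotientGroup.mk'_surjective (center (SpecialLinearGroup (Fin 2) F))))
    have h5 : Nat.gcd 2 (Fintype.card F - 1) = 1 :=
      Nat.coprime_two_left.2 (Nat.Even.sub_odd h0.le h odd_one)
    rw [S2331.result] at h3 h4
    rw [h5] at h3
    omega
  · refine Or.inl ⟨h, ?_⟩
    have h4 := (S2480.result (F := F) 2 le_rfl).2
    have h5 : Nat.gcd 2 (Fintype.card F - 1) = 2 :=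
      Nat.gcd_eq_left (even_iff_two_dvd.1 (Nat.Odd.sub_odd h odd_one))
    rw [S2325.result h] at h3
    rw [h5] at h3 h4
    obtain ⟨t, ht⟩ := h
    simp only [Nat.add_one_sub_one, pow_one, Nat.sub_self, pow_zero] at h4
    omega

theorem k_L3 (h : 8 ≤ Fintype.card F) :
    22 ≤ Nat.card (ConjClasses (ProjectiveSpecialLinearGroup (Fin 3) F)) := by
  have h1 := (S2480.result (F := F) 3 (by norm_num)).1.trans
    (Nat.mul_le_mul_right _ (Nat.gcd_le_left _ three_pos))
  have h2 := Nat.pow_le_pow_left h (3 - 1)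
  omega

theorem k_U3 {q : ℕ} (hF : Fintype.card F = q ^ 2) (h : 8 ≤ q) :
    22 ≤ Nat.card (ConjClasses (PSU 3 F q)) := by
  have h1 := S4201.result (center (SU 3 F q))
  have h2 := k_le_card (G := center (SU 3 F q))
  rw [S0279.result hF 3 le_rfl] at h2
  have h3 := ((S2481.result 3 q (by norm_num) hF).1.trans h1).trans
    (Nat.mul_le_mul_right _ (h2.trans (Nat.gcd_le_left _ three_pos)))
  have h4 := Nat.pow_le_pow_left h (3 - 1)
  change _ ≤ 3 * Nat.card (ConjClasses (PSU 3 F q)) at h3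
  omega

theorem k_L34 (hF : Fintype.card F = 4) :
    Nat.card (ConjClasses (ProjectiveSpecialLinearGroup (Fin 3) F)) ≤ 10 := by
  classical
  have hZ := Class.card_center_SL (ι := Fin 3) (F := F)
  rw [Fintype.card_fin, Nat.card_eq_fintype_card (α := F), hF,
    show Nat.gcd 3 (4 - 1) = 3 from rfl] at hZ
  have k3 := (S2479.result (F := F) 3 (by norm_num)).2.2 le_rfl
  have := Fintype.ofFinite (center (SpecialLinearGroup (Fin 3) F))
  have := Fintype.ofFinite (ConjClasses (SpecialLinearGroup (Fin 3) F))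
  have key : ∀ z ∈ Finset.univ.erase (1 : center (SpecialLinearGroup (Fin 3) F)),
      Nat.card {C : ConjClasses (SpecialLinearGroup (Fin 3) F) //
        IsConj (z * Quotient.out C) (Quotient.out C)} ≤ 1 := fun z hz => by
    obtain ⟨r, h2, h3⟩ := Matrix.SpecialLinearGroup.mem_center_iff.1 z.2
    rw [Fintype.card_fin] at h2
    let u : Fˣ := Units.mk0 r (by rintro rfl; simp at h2)
    have h4 : orderOf u = 3 := haveI := Fact.mk Nat.prime_three
      orderOf_eq_prime (Units.ext (by simpa [u] using h2)) fun e =>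
        (Finset.mem_erase.1 hz).1 (Subtype.ext (Subtype.ext (by
          rw [← h3, show r = 1 from congrArg Units.val e]; simp)))
    have h7 := Class.FG.card_SL_mul_le u (Finset.univ.filter fun C : ConjClasses
      (SpecialLinearGroup (Fin 3) F) => IsConj (z * Quotient.out C) (Quotient.out C))
      fun C hC => by
        have := KSG.isConj_GL_iff.1
          (Matrix.SpecialLinearGroup.toGL.map_isConj (Finset.mem_filter.1 hC).2)
        change IsConj ((z.1 : Matrix (Fin 3) (Fin 3) F) * _) _ at this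
        rw [← h3, scalar_apply, ← smul_eq_diagonal_mul] at this
        exact this
    rw [Nat.card_eq_fintype_card (α := F), hF, h4, Class.FG.S_one] at h7
    rw [Nat.card_eq_fintype_card, Fintype.card_subtype]
    omega
  have h8 := Class.FG.card_mul_card_conjClasses_quotient
    (center (SpecialLinearGroup (Fin 3) F)) le_rfl
  rw [hZ, ← Finset.add_sum_erase _ _ (Finset.mem_univ 1), Nat.card_congr (Equiv.subtypeUnivEquiv
    (p := fun C : ConjClasses (SpecialLinearGroup (Fin 3) F) => IsConj ((1 : center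
      (SpecialLinearGroup (Fin 3) F)) * Quotient.out C) (Quotient.out C))
    fun C => by rw [coe_one, one_mul])] at h8
  have h9 := Finset.sum_le_card_nsmul _ _ _ key
  rw [Finset.card_erase_of_mem (Finset.mem_univ _), Finset.card_univ, ← Nat.card_eq_fintype_card,
    hZ] at h9
  rw [hF] at k3
  change 3 * Nat.card (ConjClasses (ProjectiveSpecialLinearGroup (Fin 3) F)) = _ at h8
  rw [smul_eq_mul] at h9
  omega

variable {G : Type*} [Group G] [Finite G]

theorem cn_L34 (hF : Fintype.card F = 4) (e : G ≃* ProjectiveSpecialLinearGroup (Fin 3) F) :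
    3 ≤ cn 4 (cm G) := by
  have h1 := S2578.result hF (n := 3) (by norm_num)
  have hZ := Class.card_center_SL (ι := Fin 3) (F := F)
  rw [Fintype.card_fin, Nat.card_eq_fintype_card (α := F), hF,
    show Nat.gcd 3 (4 - 1) = 3 from rfl] at hZ
  have h2 : ∀ z ∈ center (SpecialLinearGroup (Fin 3) F), z ^ 4 = 1 → z = 1 := fun z hz h => by
    have h3 : z ^ 3 = 1 := orderOf_dvd_iff_pow_eq_one.1
      ((Subgroup.orderOf_dvd_natCard _ hz).trans hZ.dvd)
    rwa [pow_succ, h3, one_mul] at h
  have : CharP F 2 := CIT.charP_of_card (n := 2) Nat.prime_two hF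
  have := Fact.mk Nat.prime_two
  choose u h3 h4 h5 using fun C : {C : ConjClasses (SpecialLinearGroup (Fin 3) F) //
    ∃ u : SpecialLinearGroup (Fin 3) F, ConjClasses.mk u = C ∧
      ((u : Matrix (Fin 3) (Fin 3) F) - 1) ^ 3 = 0 ∧ ((u : Matrix (Fin 3) (Fin 3) F) - 1).rank = 3 - 1}
    => C.2
  have h6 : ∀ C j, ((u C : Matrix (Fin 3) (Fin 3) F) - 1) ^ 2 ^ j =
      (u C : Matrix (Fin 3) (Fin 3) F) ^ 2 ^ j - 1 := fun C j => by
    rw [sub_pow_char_pow_of_commute _ _ (Commute.one_right _), one_pow]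
  have h7 : ∀ C, u C ^ 4 = 1 := fun C => Subtype.ext (by
    have h7 := h6 C 2
    rw [show 2 ^ 2 = 3 + 1 from rfl, pow_succ, h4, zero_mul, eq_comm, sub_eq_zero] at h7
    exact h7)
  refine h1.symm.le.trans (card_le_cn (by norm_num)
    (fun C => e.symm (QuotientGroup.mk (u C))) (fun C => ?_) fun C D h => ?_)
  · rw [e.symm.orderOf_eq]
    refine orderOf_eq_prime_pow (p := 2) (n := 1) (fun h => ?_) ?_
    · rw [← QuotientGroup.mk_pow, QuotientGroup.eq_one_iff] at h
      have h8 := congrArg Subtype.val (h2 _ h (by rw [← pow_mul, mul_comm, pow_mul, h7, one_pow]))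
      have h9 := h6 C 1
      rw [show (u C : Matrix (Fin 3) (Fin 3) F) ^ 2 ^ 1 = 1 from h8, sub_self, pow_one, sq] at h9
      have h10 := rank_add_rank_le_card_of_mul_eq_zero h9
      rw [h5, Fintype.card_fin] at h10
      omega
    · rw [← QuotientGroup.mk_pow, show 2 ^ (1 + 1) = 4 from rfl, h7, QuotientGroup.mk_one]
  · obtain ⟨g, hg⟩ := isConj_iff.1 (e.toMonoidHom.map_isConj h)
    obtain ⟨g, rfl⟩ := QuotientGroup.mk_surjective g
    simp only [MulEquiv.toMonoidHom_eq_coe, MonoidHom.coe_coe, MulEquiv.apply_symm_apply] at hg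
    rw [← QuotientGroup.mk_mul, ← QuotientGroup.mk_inv, ← QuotientGroup.mk_mul,
      QuotientGroup.eq] at hg
    have h8 := h2 _ hg (by
      have h8 : Commute (g * u C * g⁻¹) ((g * u C * g⁻¹)⁻¹ * u D) := mem_center_iff.1 hg _
      have h9 := h8.mul_pow 4
      rwa [mul_inv_cancel_left, h7, conj_pow, h7, mul_one, mul_inv_cancel, one_mul, eq_comm] at h9)
    refine Subtype.ext ?_
    rw [← h3, ← h3, ConjClasses.mk_eq_mk_iff_isConj]
    exact isConj_iff.2 ⟨g, inv_mul_eq_one.1 h8⟩

theorem cn_Sz {m : ℕ} (hm : 1 ≤ m) (hF : Fintype.card F = 2 ^ (2 * m + 1))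
    (e : G ≃* Lie.Sz F (2 ^ (m + 1))) : 2 ≤ cn 4 (cm G) := by
  obtain ⟨x, hx⟩ := (CIT.mem_Ω_Sz hm hF 4).2 (Or.inl dvd_rfl)
  have := Chev.SzField.of_fintype hm hF
  have := Fact.mk Nat.prime_two
  let f := e.trans (Chev.Suz.lieEquiv F).symm
  have h1 : orderOf (f (e.symm x)) = 4 := by rw [f.orderOf_eq, e.symm.orderOf_eq, hx]
  have : Finite (Sz F m) := Finite.of_equiv _ f.toEquiv
  obtain ⟨P, hP⟩ := Small.exists_mem_sylow_of_pow (p := 2) (k := 2) (g := f (e.symm x))
    (orderOf_dvd_iff_pow_eq_one.1 h1.dvd)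
  refine two_le_cn (by norm_num) (x := e.symm x) (y := (e.symm x)⁻¹)
    (by rw [e.symm.orderOf_eq, hx]) (by rw [orderOf_inv, e.symm.orderOf_eq, hx]) fun h => ?_
  have h2 := (S2241.result hm hF P _ hP (fun h2 => by rw [h2, orderOf_one] at h1; omega)).1
    (by simpa using f.toMonoidHom.map_isConj h)
  omega

theorem cz_Sz {m : ℕ} (hm : 1 ≤ m) (hF : Fintype.card F = 2 ^ (2 * m + 1))
    (e : G ≃* Lie.Sz F (2 ^ (m + 1))) {t : G} (ht : orderOf t = 2) :
    cz t ≤ (2 ^ (2 * m + 1)) ^ 2 := by
  have h1 : CIT.IsCIT G := CIT.isCIT_of_Ω fun r hr h2 ⟨x, hx⟩ => by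
    have h3 := (CIT.mem_Ω_Sz hm hF (2 * r)).1 ⟨e x, by rw [e.orderOf_eq, hx]⟩
    have h4 : 2 ∣ 2 ^ (2 * m + 1) := dvd_pow_self 2 (by omega)
    have h5 : 2 ∣ 2 ^ (m + 1) := dvd_pow_self 2 (by omega)
    have h6 : 0 < 2 ^ (2 * m + 1) := by positivity
    rcases h3 with h3 | h3 | h3 | h3
    · exact h2 ((Nat.prime_dvd_prime_iff_eq hr Nat.prime_two).1
        (Nat.dvd_of_mul_dvd_mul_left two_pos (show 2 * r ∣ 2 * 2 from h3)))
    all_goals
      have := (dvd_mul_right 2 r).trans h3
      omega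
  have := Fact.mk Nat.prime_two
  obtain ⟨j, hj⟩ := (h1 t ht).exists_card_eq
  have h2 := cz_dvd t
  rw [Nat.card_congr e.toEquiv, CIT.card_lieSz hm hF, mul_assoc] at h2
  refine Nat.le_of_dvd (by positivity) (Nat.Coprime.dvd_of_dvd_mul_right ?_ h2)
  rw [cz, hj]
  refine Nat.Coprime.pow_left _ (Nat.coprime_two_left.2 (Odd.mul ?_ ?_))
  · exact (((even_two.pow_of_ne_zero (by omega)).pow_of_ne_zero two_ne_zero)).add_one
  · exact Nat.Even.sub_odd Nat.one_le_two_pow (even_two.pow_of_ne_zero (by omega)) odd_one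

end Cfsg.Agent.ClsN
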